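import Groth.Agent.GITForms86.OrbitPt

/-!
# Destabilising substitutions of forms: descent to the base field and failure of stability
-/

set_option autoImplicit false

universe u

open MvPolynomial CoordGrp
open scoped TensorProduct LaurentPolynomial

noncomputable section

namespace Groth.Agent.GITForms86

variable {k : Type u} [Field k] {n d : ℕ}

theorem sub_submatrix (σ : Equiv.Perm (Fin n)) {R : Type*} [CommRing R] (g : Matrix (Fin n) (Fin n) R)
    (F : MvPolynomial (Fin n) R) : sub (g.submatrix id σ) F = rename σ.symm (sub g F) := by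
  rw [← AlgHom.comp_apply (rename σ.symm) (sub g)]
  congr 1
  apply algHom_ext
  intro i
  simp only [AlgHom.comp_apply, sub_X, map_sum, map_mul, rename_C, rename_X, Matrix.submatrix_apply, id]
  exact Fintype.sum_equiv σ _ _ fun j => by simp

/-- A non-trivially destabilised form over an extension has sorted destabilising weights. -/
theorem exists_sorted {F : MvPolynomial (Fin n) k} (h : ¬ NoDestab F) :
    ∃ (κ : Type u) (_ : Field κ) (f : k →+* κ) (g : Matrix (Fin n) (Fin n) κ) (Γ : Type u) (_ : CommGroup Γ)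
      (_ : LinearOrder Γ) (_ : IsOrderedMonoid Γ) (w : Fin n → Γ), IsUnit g.det ∧ Antitone w ∧ w ≠ 1 ∧
        ∏ i, w i = 1 ∧ ∀ m, coeff m (sub g (map f F)) ≠ 0 → ∏ i, w i ^ m i ≤ 1 := by
  simp only [NoDestab, not_forall] at h
  obtain ⟨κ, iκ, f, g, hg, Γ, i1, i2, i3, w, hprod, hsupp, hne⟩ := h
  let σ : Equiv.Perm (Fin n) := Tuple.sort (OrderDual.toDual ∘ w)
  refine ⟨κ, iκ, f, g.submatrix id σ, Γ, i1, i2, i3, w ∘ σ, ?_, ?_, ?_, ?_, ?_⟩
  · rw [Matrix.det_permute']
    exact IsUnit.mul ((Units.map (Int.castRingHom κ).toMonoidHom (Equiv.Perm.sign σ)).isUnit) hg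
  · intro i j hij
    exact Tuple.monotone_sort (OrderDual.toDual ∘ w) hij
  · intro hw
    apply hne
    funext i
    simpa using congrFun hw (σ.symm i)
  · rw [← hprod]; exact Equiv.prod_comp σ w
  · intro m hm
    have e : m = Finsupp.mapDomain σ.symm (Finsupp.mapDomain σ m) := by
      rw [← Finsupp.mapDomain_comp]; simp
    rw [sub_submatrix, e, coeff_rename_mapDomain _ σ.symm.injective] at hm
    refine le_of_eq_of_le ?_ (hsupp _ (mem_support_iff.mpr hm))
    rw [← Equiv.prod_comp σ (fun i => w i ^ (Finsupp.mapDomain σ m) i)]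
    refine Finset.prod_congr rfl fun i _ => ?_
    rw [Finsupp.mapDomain_apply σ.injective]
    rfl

theorem exists_descend [IsAlgClosed k] (hn : 0 < n) (F : MvPolynomial (Fin n) k) (Z : Finset (Fin n →₀ ℕ))
    (κ : Type u) [Field κ] (f : k →+* κ) (g : Matrix (Fin n) (Fin n) κ) (hg : IsUnit g.det)
    (hZ : ∀ m ∈ Z, coeff m (sub g (map f F)) = 0) :
    ∃ M : Matrix (Fin n) (Fin n) k, M.det = 1 ∧ ∀ m ∈ Z, coeff m (sub M F) = 0 := by
  let σ := (Fin n × Fin n) ⊕ Unit
  let Y : Matrix (Fin n) (Fin n) (MvPolynomial σ k) := fun i j => X (Sum.inl (i, j))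
  let J : Ideal (MvPolynomial σ k) :=
    Ideal.span ({Y.det * X (Sum.inr ()) - 1} ∪ ((fun m => coeff m (sub Y (map C F))) '' (Z : Set _)))
  letI := f.toAlgebra
  let φ : MvPolynomial σ k →ₐ[k] κ := aeval (Sum.elim (fun p => g p.1 p.2) (fun _ => g.det⁻¹))
  have hY : Y.map φ = g := by ext i j; show φ (Y i j) = g i j; simp [Y, φ]
  have hcoeff : ∀ (ψ : MvPolynomial σ k →ₐ[k] κ) (m : Fin n →₀ ℕ),
      ψ (coeff m (sub Y (map C F))) = coeff m (sub (Y.map ψ) (map f F)) := by
    intro ψ m
    rw [← RingHom.coe_coe ψ, ← coeff_map, map_sub_poly, MvPolynomial.map_map]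
    have hf : (ψ : MvPolynomial σ k →+* κ).comp C = f := by
      ext c; exact ψ.commutes c
    rw [hf]
  have hker : J ≤ RingHom.ker φ := by
    rw [Ideal.span_le]
    rintro x (rfl | ⟨m, hm, rfl⟩)
    · have hd : φ Y.det = g.det := by rw [AlgHom.map_det, ← hY]; rfl
      simp only [SetLike.mem_coe, RingHom.mem_ker, map_sub, map_mul, hd, map_one]
      simp [φ, hg.ne_zero]
    · simp only [SetLike.mem_coe, RingHom.mem_ker, hcoeff, hY]
      exact hZ m hm
  obtain ⟨z, hz⟩ : (zeroLocus k J).Nonempty := by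
    by_contra hcon
    rw [Set.not_nonempty_iff_eq_empty] at hcon
    have h1 : J.radical = ⊤ := by
      rw [← vanishingIdeal_zeroLocus_eq_radical (K := k), hcon]
      ext p; simp [vanishingIdeal]
    rw [Ideal.radical_eq_top] at h1
    have h2 : (1 : MvPolynomial σ k) ∈ RingHom.ker φ := hker (h1 ▸ Submodule.mem_top)
    simp at h2
  let M0 : Matrix (Fin n) (Fin n) k := fun i j => z (Sum.inl (i, j))
  let ψ : MvPolynomial σ k →ₐ[k] k := aeval z
  have hM0 : Y.map ψ = M0 := by ext i j; show ψ (Y i j) = M0 i j; simp [Y, ψ, M0]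
  have hdet0 : M0.det ≠ 0 := by
    intro h0
    have := hz _ (Ideal.subset_span (Set.mem_union_left _ (Set.mem_singleton _)))
    have e : ψ Y.det = M0.det := by rw [AlgHom.map_det, ← hM0]; rfl
    change ψ _ = 0 at this
    rw [map_sub, map_mul, e, h0, zero_mul, map_one, zero_sub, neg_eq_zero] at this
    exact one_ne_zero this
  let D : Fin n → k := Function.update 1 ⟨0, hn⟩ M0.det⁻¹
  refine ⟨M0 * Matrix.diagonal D, ?_, fun m hm => ?_⟩
  · rw [Matrix.det_mul, Matrix.det_diagonal, Finset.prod_update_of_mem (Finset.mem_univ _)]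
    simp [hdet0]
  · rw [← sub_sub, coeff_sub_diagonal]
    have := hz _ (Ideal.subset_span (Set.mem_union_right _ ⟨m, hm, rfl⟩))
    change ψ _ = 0 at this
    rw [← RingHom.coe_coe ψ, ← coeff_map, map_sub_poly, MvPolynomial.map_map] at this
    have e : (ψ : MvPolynomial σ k →+* k).comp C = RingHom.id k := by
      ext c; simp [ψ]
    rw [e, MvPolynomial.map_id, show Y.map (ψ : MvPolynomial σ k →+* k) = M0 from hM0] at this
    rw [this, mul_zero]

theorem orbit_ext {B : Type u} [CommRing B] [Algebra k B] [CharZero k] (a : FormIdx n d → k)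
    (χ : SLn n k →ₐ[k] B) (φ : FormRing k n d →ₐ[k] B)
    (h : ∀ m : FormIdx n d, coeff m.1 (sub (ptMat χ) (map (algebraMap k B) (formPoly a))) =
      (m.1.multinomial : B) * φ (X m)) : χ.comp (orbit k n d a) = φ := by
  apply algHom_ext
  intro m
  have h' := h m
  rw [sub_formPoly_eq, coeff_sum, Finset.sum_eq_single m] at h'
  · rw [coeff_monomial, if_pos rfl] at h'
    have hu : IsUnit (m.1.multinomial : B) := by
      rw [← map_natCast (algebraMap k B)]
      refine IsUnit.map _ (IsUnit.mk0 _ (Nat.cast_ne_zero.mpr ?_))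
      rw [Finsupp.multinomial_eq]
      exact (Nat.multinomial_pos _ _).ne'
    exact hu.mul_left_cancel h'
  · intro b _ hb; rw [coeff_monomial, if_neg (fun e => hb (Subtype.ext e))]
  · simp

theorem not_isStableForm_of_destab [IsAlgClosed k] [CharZero k] (a : FormIdx n d → k)
    (M : Matrix (Fin n) (Fin n) k) (hM : M.det = 1) (r : Fin n → ℤ) (hr : ∑ i, r i = 0) (hr0 : r ≠ 0)
    (hsupp : ∀ m, coeff m (sub M (formPoly a)) ≠ 0 → 0 ≤ ∑ i, r i * (m i : ℤ)) :
    ¬ IsStableForm k n d a := by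
  intro hst
  let e : (Fin n →₀ ℕ) → ℤ := fun m => ∑ i, r i * (m i : ℤ)
  let cc : FormIdx n d → k := fun m => coeff m.1 (sub M (formPoly a))
  let D : Matrix (Fin n) (Fin n) k[T;T⁻¹] := Matrix.diagonal fun i => LaurentPolynomial.T (r i)
  have hDdet : D.det = 1 := by
    rw [Matrix.det_diagonal, CoordGrp.GLn.prod_T, hr, LaurentPolynomial.T_zero]
  have hTprod : ∀ m : Fin n →₀ ℕ, ∏ i, (LaurentPolynomial.T (r i) : k[T;T⁻¹]) ^ m i = LaurentPolynomial.T (e m) := by
    intro m
    simp only [LaurentPolynomial.T_pow, CoordGrp.GLn.prod_T, e]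
    congr 1
    exact Finset.sum_congr rfl fun i _ => mul_comm _ _
  let ι := algebraMap k k[T;T⁻¹]
  let G : Matrix (Fin n) (Fin n) k[T;T⁻¹] := M.map ι * D
  have hG : G.det = 1 := by
    rw [Matrix.det_mul, hDdet, mul_one, show M.map ι = ι.mapMatrix M from rfl, ← RingHom.map_det, hM, map_one]
  have hGc : ∀ m, coeff m (sub G (map ι (formPoly a))) = LaurentPolynomial.T (e m) * ι (coeff m (sub M (formPoly a))) := by
    intro m
    rw [← sub_sub, ← map_sub_poly, coeff_sub_diagonal, hTprod, coeff_map]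
  let χ : SLn n k →ₐ[k] k[T;T⁻¹] := SLn.pt n k G hG
  have hχ : ptMat χ = G := by ext i j : 1; exact SLn.pt_X G hG i j
  let q : FormIdx n d → k := fun m => (m.1.multinomial : k)⁻¹ * cc m
  have hq : ∀ m : FormIdx n d, (m.1.multinomial : k) * q m = cc m := by
    intro m
    refine mul_inv_cancel_left₀ (Nat.cast_ne_zero.mpr ?_) _
    rw [Finsupp.multinomial_eq]; exact (Nat.multinomial_pos _ _).ne'
  let h : FormRing k n d →ₐ[k] Polynomial k := aeval fun m => Polynomial.monomial (e m.1).toNat (q m)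
  have hpol : χ.comp (orbit k n d a) = (Polynomial.toLaurentAlg (R := k)).comp h := by
    apply orbit_ext
    intro m
    rw [hχ, hGc]
    simp only [AlgHom.comp_apply, h, aeval_X, Polynomial.toLaurentAlg_apply]
    rw [← Polynomial.C_mul_X_pow_eq_monomial, Polynomial.toLaurent_C_mul_X_pow, ← mul_assoc,
      ← map_natCast ι, show (LaurentPolynomial.C (q m) : k[T;T⁻¹]) = ι (q m) from rfl, ← map_mul, hq, mul_comm]
    by_cases hc : cc m = 0
    · rw [show ι (coeff m.1 (sub M (formPoly a))) = 0 by rw [show coeff m.1 (sub M (formPoly a)) = cc m from rfl, hc, map_zero]]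
      simp [hc]
    · rw [Int.toNat_of_nonneg (hsupp m.1 hc)]
  let y : FormRing k n d →ₐ[k] k := (Polynomial.aeval (0 : k)).comp h
  let pyI : PrimeSpectrum (FormRing k n d) := ⟨RingHom.ker y, RingHom.ker_isPrime _⟩
  have hclosed : IsClosed (Set.range (PrimeSpectrum.comap (orbit k n d a).toRingHom)) := hst.1
  have hmem : pyI ∈ Set.range (PrimeSpectrum.comap (orbit k n d a).toRingHom) := by
    rw [← hclosed.closure_eq, PrimeSpectrum.closure_range_comap, PrimeSpectrum.mem_zeroLocus]
    intro x hx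
    change y x = 0
    have h0 : Polynomial.toLaurent (h x) = 0 := by
      have := AlgHom.congr_fun hpol x
      simp only [AlgHom.comp_apply, Polynomial.toLaurentAlg_apply] at this
      rw [← this, show orbit k n d a x = 0 from hx, map_zero]
    have h1 : h x = 0 := Polynomial.toLaurent_injective (by rw [h0, map_zero])
    simp [y, h1]
  obtain ⟨P, hP⟩ := hmem
  obtain ⟨Q, hQ, hPQ⟩ := P.asIdeal.exists_le_maximal P.2.ne_top
  have hcomap : Ideal.comap (orbit k n d a) Q = RingHom.ker y := by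
    have h1 : Ideal.comap (orbit k n d a) P.asIdeal = RingHom.ker y := congrArg PrimeSpectrum.asIdeal hP
    have hy : (RingHom.ker y).IsMaximal := RingHom.ker_isMaximal_of_surjective y (fun c => ⟨C c, by simp [y]⟩)
    exact (hy.eq_of_le (Ideal.comap_ne_top _ hQ.ne_top) (h1 ▸ Ideal.comap_mono hPQ)).symm
  letI : Field (SLn n k ⧸ Q) := Ideal.Quotient.field Q
  haveI : Algebra.FiniteType k (SLn n k ⧸ Q) :=
    Algebra.FiniteType.of_surjective (Ideal.Quotient.mkₐ k Q) Ideal.Quotient.mk_surjective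
  haveI : Module.Finite k (SLn n k ⧸ Q) := finite_of_finite_type_of_isJacobsonRing k _
  let eQ := AlgEquiv.ofBijective (Algebra.ofId k (SLn n k ⧸ Q)) IsAlgClosed.algebraMap_bijective_of_isIntegral
  let x0 : SLn n k →ₐ[k] k := eQ.symm.toAlgHom.comp (Ideal.Quotient.mkₐ k Q)
  have hx0 : x0.comp (orbit k n d a) = y := by
    apply AlgHom.ext
    intro x
    have hmemk : x - C (y x) ∈ Ideal.comap (orbit k n d a) Q := by
      rw [hcomap, RingHom.mem_ker, map_sub]
      simp [y]
    rw [Ideal.mem_comap, ← Ideal.Quotient.eq_zero_iff_mem] at hmemk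
    have hx' : x0 (orbit k n d a (x - C (y x))) = 0 := by
      simp only [x0, AlgHom.comp_apply, Ideal.Quotient.mkₐ_eq_mk, hmemk, map_zero]
    rw [map_sub, map_sub, sub_eq_zero, ← algebraMap_eq, AlgHom.commutes, AlgHom.commutes] at hx'
    exact hx'
  let N := ptMat x0
  have hN : N.det = 1 := det_ptMat x0
  have hNc : ∀ m, coeff m (sub N (formPoly a)) ≠ 0 → e m = 0 := by
    intro m hm
    have hform : sub N (formPoly a) = ∑ l : FormIdx n d, monomial l.1 ((l.1.multinomial : k) * y (X l)) := by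
      have h1 := sub_formPoly_eq x0 a
      rw [Algebra.algebraMap_self, MvPolynomial.map_id] at h1
      rw [h1]
      exact Finset.sum_congr rfl fun l _ => by rw [← hx0]; rfl
    rw [hform, coeff_sum] at hm
    obtain ⟨l, -, hl⟩ := Finset.exists_ne_zero_of_sum_ne_zero hm
    rw [coeff_monomial] at hl
    split_ifs at hl with hlm
    · subst hlm
      simp only [y, AlgHom.comp_apply, h, aeval_X, Polynomial.aeval_monomial] at hl
      have hne : (0 : k) ^ (e l.1).toNat ≠ 0 := fun h0 => hl (by rw [h0, mul_zero, mul_zero])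
      have hq0 : q l ≠ 0 := fun h0 => hl (by simp [h0])
      have hcl : cc l ≠ 0 := fun h0 => hq0 (by simp [q, h0])
      have h1 := hsupp l.1 hcl
      by_contra he
      exact hne (zero_pow (fun h2 => he (le_antisymm (Int.toNat_eq_zero.mp h2) h1)))
    · exact absurd rfl hl
  let G2 : Matrix (Fin n) (Fin n) k[T;T⁻¹] := N.map ι * D * N⁻¹.map ι
  have hNi : N * N⁻¹ = 1 := Matrix.mul_nonsing_inv N (by rw [hN]; exact isUnit_one)
  have hiN : N⁻¹ * N = 1 := Matrix.nonsing_inv_mul N (by rw [hN]; exact isUnit_one)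
  have hG2 : G2.det = 1 := by
    rw [Matrix.det_mul, Matrix.det_mul, hDdet, mul_one, ← Matrix.det_mul, ← Matrix.map_mul, hNi,
      Matrix.map_one ι (map_zero ι) (map_one ι), Matrix.det_one]
  let χ2 : SLn n k →ₐ[k] k[T;T⁻¹] := SLn.pt n k G2 hG2
  have hχ2 : ptMat χ2 = G2 := by ext i j : 1; exact SLn.pt_X G2 hG2 i j
  have hfix : χ2.comp (orbit k n d a) = (Algebra.ofId k k[T;T⁻¹]).comp (GLin.vecPt k (FormIdx n d) a) := by
    apply orbit_ext
    intro m
    have h1 : sub D (map ι (sub N (formPoly a))) = map ι (sub N (formPoly a)) := by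
      ext t
      rw [coeff_sub_diagonal, hTprod, coeff_map]
      by_cases ht : coeff t (sub N (formPoly a)) = 0
      · simp [ht]
      · rw [hNc t ht, LaurentPolynomial.T_zero, one_mul]
    rw [hχ2, ← sub_sub, ← sub_sub, ← map_sub_poly, h1, ← map_sub_poly, sub_sub, hNi, sub_one, coeff_map,
      coeff_formPoly, map_mul, map_natCast]
    simp [Algebra.ofId_apply, ι]
  let J : Ideal (SLn n k) := Ideal.map (orbit k n d a) (RingHom.ker (GLin.vecPt k (FormIdx n d) a))
  have hfinJ : Module.Finite k (SLn n k ⧸ J) := hst.2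
  have hle : J ≤ RingHom.ker χ2 := by
    refine Ideal.map_le_iff_le_comap.mpr fun x hx => ?_
    have := AlgHom.congr_fun hfix x
    simp only [AlgHom.comp_apply] at this
    rw [Ideal.mem_comap, RingHom.mem_ker, this, show GLin.vecPt k (FormIdx n d) a x = 0 from hx, map_zero]
  let χb : (SLn n k ⧸ J) →ₐ[k] k[T;T⁻¹] := Ideal.Quotient.liftₐ J χ2 (fun x hx => hle hx)
  let S := χb.range
  haveI : Module.Finite k S := Module.Finite.of_surjective χb.rangeRestrict.toLinearMap χb.rangeRestrict_surjective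
  have hS2 : ∀ i j, G2 i j ∈ S := fun i j => ⟨Ideal.Quotient.mk J (SLn.X i j), by
    rw [← SLn.pt_X (k := k) G2 hG2 i j]; rfl⟩
  have hDS : ∀ i, (LaurentPolynomial.T (r i) : k[T;T⁻¹]) ∈ S := by
    intro i
    have e1 : D = N⁻¹.map ι * G2 * N.map ι := by
      simp only [G2, Matrix.mul_assoc, ← Matrix.map_mul, hiN, Matrix.map_one ι (map_zero ι) (map_one ι), mul_one]
      rw [← Matrix.mul_assoc, ← Matrix.map_mul, hiN, Matrix.map_one ι (map_zero ι) (map_one ι), one_mul]
    have e2 : (LaurentPolynomial.T (r i) : k[T;T⁻¹]) = (N⁻¹.map ι * G2 * N.map ι) i i := by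
      rw [← e1]; simp [D]
    rw [e2, Matrix.mul_apply]
    refine sum_mem fun l _ => mul_mem ?_ (S.algebraMap_mem _)
    rw [Matrix.mul_apply]
    exact sum_mem fun l' _ => mul_mem (S.algebraMap_mem _) (hS2 l' l)
  obtain ⟨i, hi⟩ := Function.ne_iff.mp hr0
  obtain ⟨p, hp, hp0⟩ : IsIntegral k (LaurentPolynomial.T (r i) : k[T;T⁻¹]) :=
    (IsIntegral.of_finite k (⟨_, hDS i⟩ : S)).map S.val
  have hroot : ∀ u : kˣ, p.IsRoot (((u ^ r i : kˣ) : k)) := by
    intro u
    have := congrArg (LaurentPolynomial.eval₂ (RingHom.id k) u) hp0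
    rw [Polynomial.hom_eval₂, map_zero, LaurentPolynomial.eval₂_T] at this
    have hid : (LaurentPolynomial.eval₂ (RingHom.id k) u).comp (algebraMap k k[T;T⁻¹]) = RingHom.id k := by
      ext c
      exact LaurentPolynomial.eval₂_C (RingHom.id k) u c
    rw [hid] at this
    exact this
  refine hp.ne_zero (Polynomial.eq_zero_of_infinite_isRoot p ?_)
  refine Set.Infinite.mono (s := ({0} : Set k)ᶜ) (fun c hc => ?_) (Set.finite_singleton 0).infinite_compl
  have hpos : 0 < (r i).natAbs := Int.natAbs_pos.mpr hi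
  obtain ⟨v, hv⟩ := IsAlgClosed.exists_pow_nat_eq c hpos
  have hv0 : v ≠ 0 := fun h0 => hc (by rw [← hv, h0, zero_pow hpos.ne']; rfl)
  rcases Int.natAbs_eq (r i) with h' | h'
  · have := hroot (Units.mk0 v hv0)
    rw [h', Units.val_zpow_eq_zpow_val, Units.val_mk0, zpow_natCast, hv] at this
    exact this
  · have := hroot (Units.mk0 v hv0)⁻¹
    rw [h', zpow_neg, inv_zpow, inv_inv, Units.val_zpow_eq_zpow_val, Units.val_mk0, zpow_natCast, hv] at this
    exact this

end Groth.Agent.GITForms86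

end
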