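import Mathlib

/-!
# Diagonalisation of square matrices over a valuation subring
-/

set_option autoImplicit false

open Matrix

namespace Groth.Agent.GITForms86

variable {K : Type*} [Field K]

theorem exists_smith (V : ValuationSubring K) : ∀ (n : ℕ) (G : Matrix (Fin n) (Fin n) K),
    ∃ (U W : Matrix (Fin n) (Fin n) V) (d : Fin n → K), IsUnit U.det ∧ IsUnit W.det ∧
      G = U.map V.subtype * diagonal d * W.map V.subtype := by
  intro n
  induction n with
  | zero => intro G; exact ⟨1, 1, Fin.elim0, by simp, by simp, Subsingleton.elim _ _⟩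
  | succ n ih =>
    intro G
    obtain ⟨⟨i0, j0⟩, -, hmax⟩ := Finset.exists_max_image Finset.univ
      (fun p : Fin (n + 1) × Fin (n + 1) => V.valuation (G p.1 p.2)) Finset.univ_nonempty
    by_cases hp : G i0 j0 = 0
    · refine ⟨1, 1, 0, by simp, by simp, ?_⟩
      ext i j
      have h := hmax (i, j) (Finset.mem_univ _)
      simp only [hp, map_zero, le_zero_iff, map_eq_zero] at h
      simp [h]
    let σ := Equiv.swap 0 i0
    let τ := Equiv.swap 0 j0
    let H := G.submatrix σ τ
    have hH0 : H 0 0 = G i0 j0 := by simp [H, σ, τ]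
    have hle : ∀ i j, H i j / H 0 0 ∈ V := by
      intro i j
      rw [← V.valuation_le_one_iff, map_div₀, hH0]
      exact div_le_one_of_le₀ (hmax (σ i, τ j) (Finset.mem_univ _)) zero_le
    let q : Fin n → V := fun i => ⟨H i.succ 0 / H 0 0, hle _ _⟩
    let r : Fin n → V := fun j => ⟨H 0 j.succ / H 0 0, hle _ _⟩
    obtain ⟨U', W', d', hU', hW', h'⟩ :=
      ih (fun i j => H i.succ j.succ - (q i : K) * H 0 0 * (r j : K))
    let U : Matrix (Fin (n + 1)) (Fin (n + 1)) V :=
      Matrix.of (Fin.cons (Fin.cons 1 0) (fun i => Fin.cons (q i) (U' i)))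
    let W : Matrix (Fin (n + 1)) (Fin (n + 1)) V :=
      Matrix.of (Fin.cons (Fin.cons 1 r) (fun i => Fin.cons 0 (W' i)))
    have hdetU : IsUnit U.det := by
      rw [det_succ_row_zero, Fin.sum_univ_succ]
      have hs : U.submatrix Fin.succ (0 : Fin (n + 1)).succAbove = U' := by ext i j; simp [U]
      simp [U] at hs ⊢
      rw [hs]
      exact hU'
    have hdetW : IsUnit W.det := by
      rw [det_succ_column_zero, Fin.sum_univ_succ]
      have hs : W.submatrix (0 : Fin (n + 1)).succAbove Fin.succ = W' := by ext i j; simp [W]
      simp [W] at hs ⊢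
      rw [hs]
      exact hW'
    have hprod : H = U.map V.subtype * diagonal (Fin.cons (H 0 0) d') * W.map V.subtype := by
      ext i j
      rw [Matrix.mul_apply]
      simp only [mul_diagonal, map_apply]
      rw [Fin.sum_univ_succ]
      have hz : H 0 0 ≠ 0 := by rw [hH0]; exact hp
      refine Fin.cases ?_ ?_ i
      · refine Fin.cases ?_ ?_ j
        · simp [U, W]
        · intro j
          simp [U, W, r]
          field_simp
      · intro i
        refine Fin.cases ?_ ?_ j
        · simp [U, W, q]
          field_simp
        · intro j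
          have e := congrFun (congrFun h' i) j
          rw [Matrix.mul_apply] at e
          simp only [mul_diagonal, map_apply] at e
          simp [U, W] at e ⊢
          rw [← e]
          ring
    refine ⟨U.submatrix σ id, W.submatrix id τ, Fin.cons (H 0 0) d', ?_, ?_, ?_⟩
    · rw [det_permute]; exact IsUnit.mul ((Units.map (Int.castRingHom V).toMonoidHom (Equiv.Perm.sign σ)).isUnit) hdetU
    · rw [det_permute']; exact IsUnit.mul ((Units.map (Int.castRingHom V).toMonoidHom (Equiv.Perm.sign τ)).isUnit) hdetW
    · have e : G = H.submatrix σ τ := by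
        ext i j; simp [H, σ, τ]
      conv_lhs => rw [e, hprod]
      ext i j
      rw [submatrix_apply, Matrix.mul_apply, Matrix.mul_apply]
      simp [mul_diagonal]

end Groth.Agent.GITForms86
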