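import Groth.Prelude.Def_GLin6
import Groth.Agent.GITForms86.Smith
import Groth.Agent.GITForms86.Smooth

/-!
# The orbit map of a form under the special linear group, and a valuative criterion of stability
-/

set_option autoImplicit false

universe u

open MvPolynomial CoordGrp
open scoped TensorProduct

noncomputable section

namespace Groth.Agent.GITForms86

variable (k : Type u) [Field k] (n d : ℕ)

/-- The inclusion of the special linear group in the matrices. -/
abbrev slHom : CoordGrp.Mat n k →ₐc[k] CoordGrp.SLn n k := (SLn.mkHom n k).comp (CoordGrp.Mat.toGLn n k)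

/-- The orbit map of the form `a`. -/
abbrev orbit (a : FormIdx n d → k) : FormRing k n d →ₐ[k] SLn n k :=
  @GLin.orbitHom k _ (SLn n k) _ _ _ _ _ (GLin.comodAlong (slHom k n) (formsCoact k n d))
    (GLin.isCoactAlg_comodAlong (slHom k n) (formsCoact k n d) (formsCoact_isCoactAlg k n d))
    (GLin.vecPt k (FormIdx n d) a)

/-- Stability of the form `a` under the special linear group. -/
abbrev IsStableForm (a : FormIdx n d → k) : Prop :=
  @GLin.IsStableVec k _ (SLn n k) _ _ (FormIdx n d) (GLin.comodAlong (slHom k n) (formsCoact k n d))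
    (GLin.isCoactAlg_comodAlong (slHom k n) (formsCoact k n d) (formsCoact_isCoactAlg k n d)) a

variable {k n d}

theorem orbit_X (a : FormIdx n d → k) (m : FormIdx n d) :
    orbit k n d a (X m) = ∑ l, a l • slHom k n (formCoeff k n d l m) := by
  change (Algebra.TensorProduct.lid k (SLn n k)).toAlgHom
    ((Algebra.TensorProduct.map (aeval a) (AlgHom.id k (SLn n k)))
      (TensorProduct.map LinearMap.id (slHom k n : CoordGrp.Mat n k →ₗ[k] SLn n k) (formsCoactAlg k n d (X m)))) = _
  rw [formsCoactAlg_X]
  simp [map_sum]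

section CommRing

variable {K : Type u} [CommRing K] [Algebra k K]

/-- The matrix of a point of the special linear group. -/
def ptMat (χ : SLn n k →ₐ[k] K) : Matrix (Fin n) (Fin n) K := fun i j => χ (SLn.X i j)

theorem det_ptMat (χ : SLn n k →ₐ[k] K) : (ptMat χ).det = 1 := by
  have h : ptMat χ = (χ.comp (SLn.mk n k)).mapMatrix (GLn.genMat n k) := rfl
  rw [h, ← AlgHom.map_det, ← GLn.det_eq, AlgHom.comp_apply, SLn.det_eq_one, map_one]

theorem slHom_eval (χ : SLn n k →ₐ[k] K) :
    χ.comp (slHom k n : CoordGrp.Mat n k →ₐ[k] SLn n k) = CoordGrp.Mat.aeval n k (ptMat χ) := by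
  apply CoordGrp.Mat.algHom_ext
  intro i j
  rw [CoordGrp.Mat.aeval_X]
  change χ (SLn.mk n k (CoordGrp.Mat.toGLn n k (CoordGrp.Mat.X i j))) = _
  rw [CoordGrp.Mat.toGLn_X]
  rfl

theorem eval_formCoeff (g : Matrix (Fin n) (Fin n) K) (l m : FormIdx n d) :
    CoordGrp.Mat.aeval n k g (formCoeff k n d l m) = coeff l.1 (sub g.transpose (monomial m.1 (1 : K))) := by
  let Ψ : MvPolynomial (Fin n) k ⊗[k] CoordGrp.Mat n k →ₐ[k] MvPolynomial (Fin n) K :=
    Algebra.TensorProduct.lift (MvPolynomial.mapAlgHom (Algebra.ofId k K))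
      ((IsScalarTower.toAlgHom k K (MvPolynomial (Fin n) K)).comp (CoordGrp.Mat.aeval n k g))
      (fun _ _ => Commute.all _ _)
  have h1 : Ψ.comp (stdCoactAlg n k) =
      ((sub g.transpose).restrictScalars k).comp (MvPolynomial.mapAlgHom (Algebra.ofId k K)) := by
    apply MvPolynomial.algHom_ext
    intro i
    simp [Ψ, stdCoactAlg_X, sub_X, mul_comm]
  have h2 : ∀ w, coeff l.1 (Ψ w) = CoordGrp.Mat.aeval n k g (coeffT (k := k) l.1 w) := by
    intro w
    induction w using TensorProduct.induction_on with
    | zero => simp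
    | tmul p q =>
      simp only [Ψ, Algebra.TensorProduct.lift_tmul, AlgHom.comp_apply, IsScalarTower.toAlgHom_apply,
        algebraMap_eq, coeffT_tmul, map_smul]
      rw [mul_comm, coeff_C_mul, Algebra.smul_def, mul_comm]
      simp [MvPolynomial.coeff_map]
    | add x y hx hy => simp [hx, hy]
  have h3 := congrArg (coeff l.1) (AlgHom.congr_fun h1 (monomial m.1 1))
  rw [formCoeff_def, ← h2]
  simpa using h3

theorem sum_pow_forms {R : Type*} [CommRing R] (z : Fin n → R) :
    (∑ i, z i) ^ d = ∑ m : FormIdx n d, (m.1.multinomial : R) * ∏ i, z i ^ m.1 i := by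
  rw [Finset.sum_pow_eq_sum_piAntidiag]
  symm
  refine Finset.sum_bij (fun m _ => ⇑m.1) ?_ ?_ ?_ ?_
  · intro m _
    simp only [Finset.mem_piAntidiag, Finset.mem_univ, implies_true, and_true]
    have := m.2
    rwa [Finsupp.degree_eq_sum] at this
  · intro m _ m' _ h
    exact Subtype.ext (DFunLike.coe_injective h)
  · intro f hf
    simp only [Finset.mem_piAntidiag] at hf
    refine ⟨⟨Finsupp.equivFunOnFinite.symm f, ?_⟩, Finset.mem_univ _, ?_⟩
    · rw [Finsupp.degree_eq_sum]; simpa using hf.1
    · simp
  · intro m _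
    rw [Finsupp.multinomial_eq_of_support_subset (Finset.subset_univ _)]

theorem monomial_one_eq_prod {R : Type*} [CommRing R] (m : Fin n →₀ ℕ) :
    monomial m (1 : R) = ∏ i, X i ^ m i := by
  rw [monomial_eq, C_1, one_mul, Finsupp.prod_fintype _ _ (fun i => pow_zero _)]

theorem sum_multinomial_coeff (g : Matrix (Fin n) (Fin n) K) (l : FormIdx n d) :
    ∑ m : FormIdx n d, monomial m.1 ((m.1.multinomial : K) * coeff l.1 (sub g.transpose (monomial m.1 1))) =
      (l.1.multinomial : MvPolynomial (Fin n) K) * sub g (monomial l.1 1) := by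
  let u : Fin n → MvPolynomial (Fin n) (MvPolynomial (Fin n) K) :=
    fun i => C (X i) * map C (sub g.transpose (X i))
  let v : Fin n → MvPolynomial (Fin n) (MvPolynomial (Fin n) K) := fun j => C (sub g (X j)) * X j
  have huv : ∑ i, u i = ∑ j, v j := by
    simp only [u, v, sub_X, map_sum, map_mul, map_C, map_X, Finset.mul_sum, Finset.sum_mul,
      Matrix.transpose_apply]
    rw [Finset.sum_comm]
    exact Finset.sum_congr rfl fun j _ => Finset.sum_congr rfl fun i _ => by ring
  have h := congrArg (fun t => coeff l.1 (t ^ d)) huv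
  simp only [sum_pow_forms, coeff_sum] at h
  have hu : ∀ m : FormIdx n d, ∏ i, u i ^ m.1 i =
      C (monomial m.1 1) * map C (sub g.transpose (monomial m.1 1)) := by
    intro m
    simp only [u, mul_pow, Finset.prod_mul_distrib, monomial_one_eq_prod, map_prod, map_pow]
  have hv : ∀ m : FormIdx n d, ∏ i, v i ^ m.1 i =
      monomial m.1 (sub g (monomial m.1 1)) := by
    intro m
    rw [← mul_one (sub g (monomial m.1 1)), ← C_mul_monomial]
    simp only [v, mul_pow, Finset.prod_mul_distrib, monomial_one_eq_prod, map_prod, map_pow]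
  simp only [hu, hv] at h
  have hc : ∀ (q : ℕ) (t : MvPolynomial (Fin n) (MvPolynomial (Fin n) K)),
      coeff l.1 ((q : MvPolynomial (Fin n) (MvPolynomial (Fin n) K)) * t) = (q : MvPolynomial (Fin n) K) * coeff l.1 t := by
    intro q t; rw [← map_natCast (C : MvPolynomial (Fin n) K →+* _), coeff_C_mul]
  simp only [hc, coeff_C_mul, coeff_map, coeff_monomial] at h
  have e : ∀ t : FormIdx n d → MvPolynomial (Fin n) K,
      ∑ x : FormIdx n d, (x.1.multinomial : MvPolynomial (Fin n) K) * (if x.1 = l.1 then t x else 0) =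
        (l.1.multinomial : MvPolynomial (Fin n) K) * t l := fun t => by
    rw [Finset.sum_eq_single l (fun b _ hb => by rw [if_neg (fun e => hb (Subtype.ext e)), mul_zero]) (by simp),
      if_pos rfl]
  rw [e] at h
  rw [← h]
  refine Finset.sum_congr rfl fun m _ => ?_
  rw [← map_natCast (C : K →+* MvPolynomial (Fin n) K), mul_comm (monomial m.1 (1 : K)), C_mul_monomial,
    C_mul_monomial]
  simp

theorem sub_formPoly_eq (χ : SLn n k →ₐ[k] K) (a : FormIdx n d → k) :
    sub (ptMat χ) (map (algebraMap k K) (formPoly a)) =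
      ∑ m : FormIdx n d, monomial m.1 ((m.1.multinomial : K) * χ (orbit k n d a (X m))) := by
  have he : ∀ l m : FormIdx n d, χ (slHom k n (formCoeff k n d l m)) =
      coeff l.1 (sub (ptMat χ).transpose (monomial m.1 (1 : K))) := fun l m => by
    rw [← eval_formCoeff (k := k), ← slHom_eval]; rfl
  simp only [orbit_X, map_sum, map_smul, he]
  simp only [Algebra.smul_def, Finset.mul_sum, map_sum]
  rw [Finset.sum_comm]
  simp only [formPoly, map_sum, map_monomial, map_mul, map_natCast]
  refine Finset.sum_congr rfl fun l _ => ?_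
  rw [show (monomial l.1 ((l.1.multinomial : K) * algebraMap k K (a l)) : MvPolynomial (Fin n) K) =
    C (algebraMap k K (a l)) * C (l.1.multinomial : K) * monomial l.1 (1 : K) by
      rw [← C_mul, C_mul_monomial, mul_one, mul_comm], map_mul, map_mul, algHom_C, algHom_C, algebraMap_eq,
    map_natCast, mul_assoc, ← sum_multinomial_coeff, Finset.mul_sum]
  refine Finset.sum_congr rfl fun m _ => ?_
  rw [C_mul_monomial]
  ring_nf

end CommRing

variable {K : Type u} [Field K] [Algebra k K]

/-- Being fixed by no non-trivial weights after any change of coordinates over any extension field. -/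
def NoDestab (F : MvPolynomial (Fin n) k) : Prop :=
  ∀ (κ : Type u) [Field κ] (f : k →+* κ) (g : Matrix (Fin n) (Fin n) κ), IsUnit g.det →
    ∀ (Γ : Type u) [CommGroup Γ] [LinearOrder Γ] [IsOrderedMonoid Γ] (w : Fin n → Γ), ∏ i, w i = 1 →
      (∀ m ∈ (sub g (map f F)).support, ∏ i, w i ^ m i ≤ 1) → w = 1

theorem mem_of_noDestab {F : MvPolynomial (Fin n) k} (hF : NoDestab F) (V : ValuationSubring K)
    (hk : ∀ c : k, algebraMap k K c ∈ V) (G : Matrix (Fin n) (Fin n) K) (hdet : G.det = 1)
    (hH : ∀ m, coeff m (sub G (map (algebraMap k K) F)) ∈ V) : ∀ i j, G i j ∈ V := by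
  obtain ⟨U, W, d, hU, hW, hG⟩ := exists_smith V n G
  let ι : V →+* K := V.subtype
  let fV : k →+* V := (algebraMap k K).codRestrict V.toSubring hk
  let FV : MvPolynomial (Fin n) V := map fV F
  have hFV : map ι FV = map (algebraMap k K) F := by
    rw [map_map]; rfl
  have hval1 : ∀ (x : V), IsUnit x → V.valuation (x : K) = 1 := fun x hx =>
    (V.valuation_eq_one_iff x).mp hx
  have hdet' : V.valuation (∏ i, d i) = 1 := by
    have := congrArg (fun M : Matrix (Fin n) (Fin n) K => V.valuation M.det) hG
    simp only [hdet, map_one, Matrix.det_mul, Matrix.det_diagonal, map_mul] at this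
    rw [show U.map V.subtype = V.subtype.mapMatrix U from rfl, show W.map V.subtype = V.subtype.mapMatrix W from rfl,
      ← RingHom.map_det, ← RingHom.map_det] at this
    rw [show (V.subtype U.det) = (U.det : K) from rfl, show (V.subtype W.det) = (W.det : K) from rfl,
      hval1 _ hU, hval1 _ hW, one_mul, mul_one] at this
    exact this.symm
  have hd0 : ∀ i, V.valuation (d i) ≠ 0 := by
    intro i h0
    rw [map_prod, Finset.prod_eq_zero (Finset.mem_univ i) h0] at hdet'
    exact zero_ne_one hdet'
  -- the form in the coordinates of `U` after the diagonal substitution is integral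
  have hint : ∀ m, coeff m (sub (Matrix.diagonal d) (map ι (sub U FV))) ∈ V := by
    obtain ⟨H, hH'⟩ : ∃ H : MvPolynomial (Fin n) V, map ι H = sub G (map (algebraMap k K) F) := by
      refine ⟨∑ m ∈ (sub G (map (algebraMap k K) F)).support, monomial m ⟨_, hH m⟩, ?_⟩
      rw [map_sum]
      conv_rhs => rw [(sub G (map (algebraMap k K) F)).as_sum]
      exact Finset.sum_congr rfl fun m _ => by rw [map_monomial]; rfl
    intro m
    have e : sub (Matrix.diagonal d) (map ι (sub U FV)) = map ι (sub W⁻¹ H) := by
      rw [map_sub_poly, map_sub_poly, hFV, hH', sub_sub, sub_sub]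
      congr 2
      rw [hG, Matrix.mul_assoc, ← Matrix.map_mul, Matrix.mul_nonsing_inv W hW, Matrix.map_one ι (map_zero ι) (map_one ι),
        mul_one]
    rw [e, coeff_map]
    exact SetLike.coe_mem _
  let w : Fin n → (ValuationSubring.ValueGroup V)ˣ := fun i => Units.mk0 _ (hd0 i)
  have hw : w = 1 := by
    refine hF (IsLocalRing.ResidueField V) ((IsLocalRing.residue V).comp fV) (U.map (IsLocalRing.residue V)) ?_ _ w ?_ ?_
    · rw [show U.map (IsLocalRing.residue V) = (IsLocalRing.residue V).mapMatrix U from rfl, ← RingHom.map_det]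
      exact hU.map _
    · ext
      simpa [w, map_prod] using hdet'
    · intro m hm
      rw [mem_support_iff, ← map_map, ← map_sub_poly, coeff_map] at hm
      have hu : IsUnit (coeff m (sub U FV)) := IsLocalRing.residue_ne_zero_iff_isUnit _ |>.mp hm
      have h := hint m
      rw [coeff_sub_diagonal, coeff_map, ← V.valuation_le_one_iff, map_mul,
        show (ι (coeff m (sub U FV))) = ((coeff m (sub U FV) : V) : K) from rfl, hval1 _ hu, mul_one] at h
      rw [← Units.val_le_val]
      simpa [w, map_prod, map_pow] using h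
  have hdV : ∀ i, d i ∈ V := fun i => by
    rw [← V.valuation_le_one_iff]
    have := congrArg (fun t => (t i : ValuationSubring.ValueGroup V)) hw
    simp [w] at this
    rw [this]
  intro i j
  have : G = (U * Matrix.diagonal (fun i => (⟨d i, hdV i⟩ : V)) * W).map ι := by
    rw [hG, Matrix.map_mul, Matrix.map_mul, Matrix.diagonal_map (map_zero ι)]
    rfl
  rw [this]
  exact SetLike.coe_mem _

instance finiteType_SLn : Algebra.FiniteType k (SLn n k) := by
  haveI : Algebra.FiniteType k (GLb n k) :=
    inferInstanceAs (Algebra.FiniteType k (MvPolynomial (GLPoly.Idx n) k))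
  haveI : Algebra.FiniteType k (GLn n k) :=
    Algebra.FiniteType.of_surjective (GLn.mk n k) Ideal.Quotient.mk_surjective
  exact Algebra.FiniteType.of_surjective (SLn.mk n k) Ideal.Quotient.mk_surjective

theorem isIntegral_orbit [CharZero k] (a : FormIdx n d → k) (hF : NoDestab (formPoly a)) :
    (orbit k n d a).toRingHom.IsIntegral := by
  letI : Algebra (FormRing k n d) (SLn n k) := (orbit k n d a).toRingHom.toAlgebra
  haveI : IsNoetherianRing (SLn n k) := Algebra.FiniteType.isNoetherianRing k _
  have hgen : ∀ i j, IsIntegral (FormRing k n d) (SLn.X i j : SLn n k) := by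
    intro i j
    have hfin : (minimalPrimes (SLn n k)).Finite := minimalPrimes.finite_of_isNoetherianRing (SLn n k)
    have hP : ∀ P ∈ minimalPrimes (SLn n k), ∃ q : Polynomial (FormRing k n d), q.Monic ∧
        Polynomial.aeval (SLn.X i j : SLn n k) q ∈ P := by
      intro P hP
      haveI : P.IsPrime := Ideal.minimalPrimes_isPrime hP
      let χ : SLn n k →ₐ[k] P.ResidueField := IsScalarTower.toAlgHom k (SLn n k) P.ResidueField
      let ψ : FormRing k n d →+* P.ResidueField := χ.toRingHom.comp (orbit k n d a).toRingHom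
      have hmem : χ (SLn.X i j) ∈ (integralClosure (Subring.closure (Set.range ψ)) P.ResidueField).toSubring := by
        rw [← iInf_valuationSubring_superset, Subring.mem_iInf]
        rintro ⟨V, hV⟩
        have hk : ∀ c : k, algebraMap k P.ResidueField c ∈ V := fun c => hV ⟨C c, by
          simp only [ψ, RingHom.comp_apply, AlgHom.toRingHom_eq_coe, RingHom.coe_coe]
          rw [← algebraMap_eq, AlgHom.commutes, AlgHom.commutes]⟩
        refine mem_of_noDestab hF V hk (ptMat χ) (det_ptMat χ) (fun m => ?_) i j
        rw [sub_formPoly_eq, coeff_sum]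
        refine sum_mem fun l _ => ?_
        rw [coeff_monomial]
        split_ifs
        · exact mul_mem (natCast_mem V _) (hV ⟨X l, rfl⟩)
        · exact zero_mem V
      have hint : ψ.IsIntegralElem (χ (SLn.X i j)) := by
        obtain ⟨q, hq, hq'⟩ := hmem
        have hcl : Subring.closure (Set.range ψ) = ψ.range := by
          rw [show Set.range ψ = (ψ.range : Set P.ResidueField) from (RingHom.coe_range ψ).symm, Subring.closure_eq]
        have hlift : q.map (algebraMap _ P.ResidueField) ∈ Polynomial.lifts ψ := by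
          rw [Polynomial.lifts_iff_coeff_lifts]
          intro t
          rw [Polynomial.coeff_map]
          have := (q.coeff t).2
          simp only [hcl] at this
          exact this
        obtain ⟨q', hq1, -, hq3⟩ := Polynomial.lifts_and_degree_eq_and_monic hlift (hq.map _)
        refine ⟨q', hq3, ?_⟩
        rw [← Polynomial.eval_map, hq1, Polynomial.eval_map]
        exact hq'
      obtain ⟨q, hq, hq0⟩ := hint
      refine ⟨q, hq, ?_⟩
      rw [← Ideal.algebraMap_residueField_eq_zero]
      rw [Polynomial.aeval_def, Polynomial.hom_eval₂]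
      exact hq0
    choose! q hqm hq0 using hP
    let Q := ∏ P ∈ hfin.toFinset, q P
    have hQ : Polynomial.aeval (SLn.X i j : SLn n k) Q ∈ nilradical (SLn n k) := by
      rw [nilradical_eq_sInf, Ideal.mem_sInf]
      intro P hP
      haveI : P.IsPrime := hP
      obtain ⟨P', hP', hle⟩ := Ideal.exists_minimalPrimes_le (J := P) (I := (⊥ : Ideal (SLn n k))) bot_le
      refine hle ?_
      simp only [Q, map_prod]
      exact Ideal.prod_mem _ (Finset.mem_coe.mp (by simpa using hP')) (hq0 P' hP')
    obtain ⟨N, hN⟩ := hQ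
    refine ⟨Q ^ N, (Polynomial.monic_prod_of_monic _ _ fun P hP => hqm P (by simpa using hP)).pow N, ?_⟩
    rw [← Polynomial.aeval_def, map_pow, hN]
  intro x
  have htop : (Algebra.adjoin k (Set.range fun p : Fin n × Fin n => (SLn.X p.1 p.2 : SLn n k))) = ⊤ := by
    let E := Algebra.adjoin k (Set.range fun p : Fin n × Fin n => (SLn.X p.1 p.2 : SLn n k))
    have hX : ∀ i j, (SLn.X i j : SLn n k) ∈ E := fun i j => Algebra.subset_adjoin ⟨(i, j), rfl⟩
    rw [eq_top_iff]
    intro y hy0; clear hy0
    obtain ⟨y, rfl⟩ : ∃ z, SLn.mk n k z = y := Ideal.Quotient.mk_surjective y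
    obtain ⟨y, rfl⟩ : ∃ z, GLn.mk n k z = y := Ideal.Quotient.mk_surjective y
    let ρ : MvPolynomial (GLPoly.Idx n) k →ₐ[k] SLn n k :=
      ((SLn.mk n k).comp (GLn.mk n k) : GLb n k →ₐ[k] SLn n k)
    change ρ y ∈ E
    induction y using MvPolynomial.induction_on with
    | C c =>
      rw [← algebraMap_eq, AlgHom.commutes]
      exact E.algebraMap_mem c
    | add p q hp hq =>
      rw [map_add]
      exact add_mem hp hq
    | mul_X p v hp =>
      rw [map_mul]
      refine mul_mem hp ?_
      rcases v with ⟨i, j⟩ | ⟨⟩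
      · exact hX i j
      · change SLn.mk n k (GLn.Dinv) ∈ E
        have : SLn.mk n k (GLn.Dinv : GLn n k) = 1 := by
          rw [← mul_one (SLn.mk n k GLn.Dinv), ← SLn.det_eq_one, ← map_mul, GLn.Dinv_mul_det, map_one, SLn.det_eq_one]
        rw [this]; exact one_mem _
  have hle : Algebra.adjoin k (Set.range fun p : Fin n × Fin n => (SLn.X p.1 p.2 : SLn n k)) ≤
      (integralClosure (FormRing k n d) (SLn n k)).restrictScalars k := by
    rw [Algebra.adjoin_le_iff]
    rintro _ ⟨p, rfl⟩
    exact hgen p.1 p.2
  exact hle (htop ▸ Algebra.mem_top)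

theorem isStableForm_of_noDestab [CharZero k] (a : FormIdx n d → k) (hF : NoDestab (formPoly a)) :
    IsStableForm k n d a := by
  have hint := isIntegral_orbit a hF
  refine ⟨?_, ?_⟩
  · change IsClosed (Set.range (PrimeSpectrum.comap (orbit k n d a).toRingHom))
    exact (PrimeSpectrum.isClosedMap_comap_of_isIntegral _ hint).isClosed_range
  · change Module.Finite k (SLn n k ⧸ Ideal.map (orbit k n d a) (RingHom.ker (GLin.vecPt k (FormIdx n d) a)))
    have hfin : (orbit k n d a).toRingHom.Finite := by
      refine RingHom.IsIntegral.to_finite hint ?_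
      have hft : (algebraMap k (SLn n k)).FiniteType := by
        rw [RingHom.finiteType_algebraMap]
        infer_instance
      refine RingHom.FiniteType.of_comp_finiteType (f := algebraMap k (FormRing k n d)) ?_
      rw [AlgHom.toRingHom_eq_coe, AlgHom.comp_algebraMap]
      exact hft
    set I := RingHom.ker (GLin.vecPt k (FormIdx n d) a) with hI
    letI : Algebra (FormRing k n d) (SLn n k) := (orbit k n d a).toRingHom.toAlgebra
    haveI : Module.Finite (FormRing k n d) (SLn n k) := hfin
    haveI : IsScalarTower k (FormRing k n d) (SLn n k) :=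
      IsScalarTower.of_algebraMap_eq fun c => ((orbit k n d a).commutes c).symm
    let J := Ideal.map (orbit k n d a) I
    haveI : Module.Finite (FormRing k n d) (SLn n k ⧸ J) :=
      Module.Finite.of_surjective (Ideal.Quotient.mkₐ (FormRing k n d) J).toLinearMap Ideal.Quotient.mk_surjective
    obtain ⟨s, hs⟩ := Module.Finite.fg_top (R := FormRing k n d) (M := SLn n k ⧸ J)
    refine ⟨⟨s, eq_top_iff.mpr fun y hy0 => ?_⟩⟩
    clear hy0
    have hy : y ∈ Submodule.span (FormRing k n d) (s : Set (SLn n k ⧸ J)) := hs ▸ Submodule.mem_top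
    induction hy using Submodule.span_induction with
    | mem x hx => exact Submodule.subset_span hx
    | zero => exact zero_mem _
    | add x y _ _ hx hy => exact add_mem hx hy
    | smul r x _ hx =>
      have hr : r - algebraMap k _ (GLin.vecPt k (FormIdx n d) a r) ∈ I := by
        simp [hI, RingHom.mem_ker]
      have h0 : Ideal.Quotient.mk J (algebraMap (FormRing k n d) (SLn n k) (r - algebraMap k _ (GLin.vecPt k (FormIdx n d) a r))) = 0 :=
        Ideal.Quotient.eq_zero_iff_mem.mpr (Ideal.mem_map_of_mem _ hr)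
      have e : r • x = (GLin.vecPt k (FormIdx n d) a r) • x := by
        rw [map_sub, map_sub, sub_eq_zero] at h0
        rw [Algebra.smul_def, Algebra.smul_def, IsScalarTower.algebraMap_apply k (FormRing k n d) (SLn n k ⧸ J)]
        exact congrArg (· * x) h0
      rw [e]
      exact Submodule.smul_mem _ _ hx

theorem noDestab_of_smooth [IsAlgClosed k] (a : FormIdx n d → k) (hd : 3 ≤ d)
    (h : ∀ w : Fin n → k, w ≠ 0 → ∃ i, eval w (pderiv i (formPoly a)) ≠ 0) : NoDestab (formPoly a) := by
  intro κ _ f g hg Γ _ _ _ w hprod hw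
  have hhom : (formPoly a).IsHomogeneous d := IsHomogeneous.sum _ _ _ fun m _ => isHomogeneous_monomial _ m.2
  exact weights_trivial hd _ (isHomogeneous_sub g (hhom.map f)) (smooth_sub g hg (smooth_map f (smooth_of_eval _ h)))
    w hprod hw

end Groth.Agent.GITForms86

end
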